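import Groth.Agent.CommGrpDecomp.Unip
import Mathlib.LinearAlgebra.Eigenspace.Triangularizable
import Mathlib.LinearAlgebra.Eigenspace.Pi
import Mathlib.RingTheory.HopfAlgebra.GroupLike
import Mathlib.RingTheory.Bialgebra.TensorProduct
import Mathlib.RingTheory.HopfAlgebra.TensorProduct

/-!
# A cocommutative Hopf algebra over an algebraically closed field is generated by group-likes over
its unipotent part
-/

namespace Groth.Agent.CommGrpDecomp

open TensorProduct WithConv CoalgebraStruct HopfRep Groth.Agent.ComodBasic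

universe u v

section AlgClosed

variable {K : Type u} [Field K] {H : Type u} [CommRing H] [HopfAlgebra K H]
  [Coalgebra.IsCocomm K H]

/-- so that the ring structure found on functionals is the commutative one -/
noncomputable local instance (priority := 2000) : CommRing (Cv K H) := LinearMap.convCommRing

theorem exists_groupLike_translate (χ : Cv K H → K) (W : Submodule (Cv K H) H) (hW : W ≠ ⊥)
    [Module.Finite K W]
    (hnil : ∀ (φ : Cv K H), ∀ x ∈ W, ∃ N, (φ - χ φ • (1 : Cv K H)) ^ N • x = 0) :
    ∃ g : H, IsGroupLikeElem K g ∧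
      ∀ x ∈ W, ∃ n, HopfAlgebra.antipode K g * x ∈ socSeries K H H n := by
  obtain ⟨S, hSW, hS⟩ := exists_simple_le hW
  obtain ⟨w, hwS, hw0⟩ := S.exists_mem_ne_zero_of_ne_bot
    (Submodule.nontrivial_iff_ne_bot.1 (IsSimpleModule.nontrivial (Cv K H) S))
  have heig : ∀ φ : Cv K H, φ • w = χ φ • w := by
    intro φ
    let ψ := φ - χ φ • (1 : Cv K H)
    rcases eq_bot_or_eq_top (LinearMap.ker (LinearMap.lsmul (Cv K H) S ψ)) with h | h
    · exfalso
      obtain ⟨N, hN⟩ := hnil φ w (hSW hwS)
      have hi := LinearMap.ker_eq_bot.1 h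
      have : ∀ N, Function.Injective fun s : S => ψ ^ N • s := by
        intro N
        induction N with
        | zero =>
          intro a b hab
          simpa using hab
        | succ N ih =>
          intro a b hab
          simp only [pow_succ, mul_smul] at hab
          exact hi (ih hab)
      have h0 := this N (a₁ := ⟨w, hwS⟩) (a₂ := 0) (by
        simp only [smul_zero]; exact Subtype.ext hN)
      exact hw0 (congrArg Subtype.val h0)
    · have h1 : ψ • (⟨w, hwS⟩ : S) = 0 := by
        have := LinearMap.mem_ker.1 (h ▸ Submodule.mem_top :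
          (⟨w, hwS⟩ : S) ∈ LinearMap.ker (LinearMap.lsmul (Cv K H) S ψ))
        exact this
      have h2 := congrArg Subtype.val h1
      simp only [SetLike.val_smul, ZeroMemClass.coe_zero, ψ, sub_smul, smul_assoc, one_smul,
        sub_eq_zero] at h2
      exact h2
  obtain ⟨ξ, hξ⟩ := Module.Projective.exists_dual_ne_zero K hw0
  let g : H := (coef ((ξ w)⁻¹ • ξ) : H →ₗ[Cv K H] H) w
  have hg : ∀ φ : Cv K H, φ.ofConv g = χ φ := fun φ => by
    rw [dual_coef, heig, map_smul, LinearMap.smul_apply]
    simp [inv_mul_cancel₀ hξ]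
  have hgl : IsGroupLikeElem K g := by
    refine ⟨?_, eq_of_slice fun θ => ?_⟩
    · rw [counit_coef]; simp [inv_mul_cancel₀ hξ]
    · have h := hg (toConv θ)
      rw [ofConv_toConv] at h
      rw [slice_tmul, h]
      show (toConv θ : Cv K H) • g = _
      rw [show g = (coef ((ξ w)⁻¹ • ξ) : H →ₗ[Cv K H] H) w from rfl, ← map_smul, heig,
        LinearMap.map_smul_of_tower]
  refine ⟨g, hgl, ?_⟩
  set h := HopfAlgebra.antipode K g with hh
  have hgh : h * g = 1 := hgl.antipode_mul_cancel
  let m : Ideal (Cv K H) := Ideal.span {ψ : Cv K H | ψ.ofConv g = 0}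
  obtain ⟨N, hN⟩ : ∃ N, m ^ N ≤ Module.annihilator (Cv K H) W := by
    let I := Module.annihilator (Cv K H) W
    let f : (Cv K H ⧸ I) →ₐ[K] Module.End K W :=
      Ideal.Quotient.liftₐ I (Algebra.lsmul K K W : Cv K H →ₐ[K] Module.End K W) fun ψ hψ =>
        LinearMap.ext fun x => Module.mem_annihilator.1 hψ x
    have hf : Function.Injective f := by
      rw [injective_iff_map_eq_zero]
      intro q hq
      obtain ⟨ψ, rfl⟩ := Ideal.Quotient.mk_surjective q
      exact Ideal.Quotient.eq_zero_iff_mem.2
        (Module.mem_annihilator.2 fun x => LinearMap.congr_fun hq x)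
    haveI : Module.Finite K (Cv K H ⧸ I) := Module.Finite.of_injective f.toLinearMap hf
    haveI : IsNoetherianRing (Cv K H ⧸ I) := isNoetherian_of_tower K inferInstance
    obtain ⟨N, hN⟩ := IsNoetherianRing.isNilpotent_nilradical (Cv K H ⧸ I)
    refine ⟨N, ?_⟩
    show m ^ N ≤ I
    refine le_of_le_of_eq ?_ (Ideal.mk_ker (I := I))
    rw [RingHom.ker_eq_comap_bot, ← Ideal.map_le_iff_le_comap]
    refine (Ideal.map_pow (Ideal.Quotient.mk I) m N).trans_le ?_
    refine (Ideal.pow_right_mono ?_ N).trans hN.le
    refine Ideal.map_le_iff_le_comap.2 (Ideal.span_le.2 fun ψ hψ => ?_)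
    obtain ⟨t, ht⟩ := Module.Finite.fg_top (R := K) (M := W)
    have hψ' : ψ - χ ψ • (1 : Cv K H) = ψ := by
      rw [← hg ψ, show ψ.ofConv g = 0 from hψ, zero_smul, sub_zero]
    have hx : ∀ x : W, ∃ N, ψ ^ N • x = 0 := fun x => by
      obtain ⟨N, hN⟩ := hnil ψ x x.2
      rw [hψ'] at hN
      exact ⟨N, Subtype.ext hN⟩
    choose M hM using hx
    refine mem_nilradical.2 ⟨t.sup M, ?_⟩
    rw [← map_pow, Ideal.Quotient.eq_zero_iff_mem, Module.mem_annihilator]
    intro x
    have hx' : x ∈ Submodule.span K (↑t : Set W) := ht ▸ Submodule.mem_top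
    induction hx' using Submodule.span_induction with
    | mem y hy =>
      rw [← Nat.sub_add_cancel (Finset.le_sup (f := M) hy), pow_add, mul_smul, hM, smul_zero]
    | zero => simp
    | add a b _ _ ha hb => rw [smul_add, ha, hb, add_zero]
    | smul c a _ ha => rw [smul_comm, ha, smul_zero]
  suffices hind : ∀ (n : ℕ) (x : H), x ∈ W → (∀ e ∈ m ^ n, e • x = 0) →
      h * x ∈ socSeries K H H n from
    fun x hx => ⟨N, hind N x hx fun e he =>
      congrArg Subtype.val (Module.mem_annihilator.1 (hN he) (⟨x, hx⟩ : W))⟩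
  intro n
  induction n with
  | zero =>
    intro x _ hx
    have : x = 0 := by
      have h1 := hx 1 (by rw [Submodule.pow_zero, Ideal.one_eq_top]; exact Submodule.mem_top)
      rwa [one_smul] at h1
    rw [this, mul_zero]; exact zero_mem _
  | succ n ih =>
    intro x hx hkill
    show h * x ∈ fixStep (socSeries K H H n)
    refine mem_fixStep_of fun φ hφ => ?_
    let ψ : Cv K H := toConv (φ.ofConv ∘ₗ LinearMap.mulLeft K h)
    have e : φ • (h * x) = h * (ψ • x) := by
      rw [smul_def, smul_def, act_apply, act_apply,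
        show Comod.coact (k := K) (A := H) (h * x) = comul (R := K) (h * x) from rfl,
        Bialgebra.comul_mul, hgl.antipode.comul_eq_tmul_self,
        show Comod.coact (k := K) (A := H) x = comul (R := K) x from rfl]
      generalize comul (R := K) x = z
      induction z using TensorProduct.induction_on with
      | zero => simp
      | add a b ha hb => rw [mul_add, map_add, map_add, mul_add, ha, hb]
      | tmul a b => simp [ψ, hh]
    rw [e]
    refine ih _ (W.smul_mem ψ hx) fun e' he' => ?_
    rw [smul_smul]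
    refine hkill _ ?_
    rw [Submodule.pow_succ]
    exact Ideal.mul_mem_mul he' (Ideal.subset_span (by simpa [ψ, hgh] using hφ))

variable [IsAlgClosed K]

theorem span_groupLike_mul_eq_top :
    Submodule.span K {x : H | ∃ g, IsGroupLikeElem K g ∧ ∃ n, ∃ b ∈ socSeries K H H n, x = g * b}
      = ⊤ := by
  set P := Submodule.span K
    {x : H | ∃ g, IsGroupLikeElem K g ∧ ∃ n, ∃ b ∈ socSeries K H H n, x = g * b} with hP
  refine top_le_iff.1 fun a _ => ?_
  obtain ⟨M, hM, haM⟩ :=
    exists_finite_subcomod_of_finite (k := K) (C := H) {a} (Set.finite_singleton a)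
  haveI : Module.Finite K M := hM
  let f : Cv K H → Module.End K M := fun φ => Algebra.lsmul K K M φ
  have hdec := Module.End.iSup_iInf_maxGenEigenspace_eq_top_of_iSup_maxGenEigenspace_eq_top_of_commute
    f (fun φ ψ _ => (Commute.all φ ψ).map (Algebra.lsmul K K M))
    fun φ => Module.End.iSup_maxGenEigenspace_eq_top (f φ)
  suffices hle : (⊤ : Submodule K M) ≤ P.comap (M.subtype.restrictScalars K) from
    hle (Submodule.mem_top (x := (⟨a, haM rfl⟩ : M)))
  rw [← hdec]
  refine iSup_le fun χ x hx => ?_
  let G : Submodule (Cv K H) H :=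
    { carrier := {y | y ∈ M ∧ ∀ φ : Cv K H, ∃ N, (φ - χ φ • (1 : Cv K H)) ^ N • y = 0}
      add_mem' := fun {y z} hy hz => ⟨add_mem hy.1 hz.1, fun φ => by
        obtain ⟨m, hm⟩ := hy.2 φ
        obtain ⟨n, hn⟩ := hz.2 φ
        refine ⟨m + n, ?_⟩
        rw [smul_add, add_comm m n, pow_add, mul_smul, hm, smul_zero, zero_add, ← pow_add,
          add_comm n m, pow_add, mul_smul, hn, smul_zero]⟩
      zero_mem' := ⟨zero_mem _, fun φ => ⟨0, by simp⟩⟩
      smul_mem' := fun θ y hy => ⟨M.smul_mem θ hy.1, fun φ => by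
        obtain ⟨m, hm⟩ := hy.2 φ
        exact ⟨m, by rw [smul_comm, hm, smul_zero]⟩⟩ }
  have hxG : (x : H) ∈ G := by
    refine ⟨x.2, fun φ => ?_⟩
    obtain ⟨N, hN⟩ := (Module.End.mem_maxGenEigenspace (f φ) (χ φ) x).1
      ((Submodule.mem_iInf _).1 hx φ)
    refine ⟨N, ?_⟩
    have e : (f φ - χ φ • (1 : Module.End K M)) ^ N =
        Algebra.lsmul K K M ((φ - χ φ • (1 : Cv K H)) ^ N) := by
      simp only [map_pow, map_sub, map_smul, map_one, f]
    rw [e] at hN
    exact congrArg Subtype.val hN
  show (x : H) ∈ P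
  rcases eq_or_ne (x : H) 0 with h0 | h0
  · rw [h0]; exact zero_mem _
  haveI : Module.Finite K (G.restrictScalars K) :=
    Submodule.finiteDimensional_of_le (S₂ := M.restrictScalars K) fun y hy => hy.1
  haveI : Module.Finite K G := ‹Module.Finite K (G.restrictScalars K)›
  obtain ⟨g, hg, hb⟩ := exists_groupLike_translate χ G (fun h => h0 (by simpa [h] using hxG))
    fun φ y hy => hy.2 φ
  obtain ⟨n, hn⟩ := hb x hxG
  refine Submodule.subset_span ⟨g, hg, n, _, hn, ?_⟩
  rw [← mul_assoc, hg.mul_antipode_cancel, one_mul]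

end AlgClosed

section BaseChange

variable {k : Type u} [Field k] {A : Type u} [CommRing A] [HopfAlgebra k A]
  {K : Type u} [Field K] [Algebra k K]

theorem lslice_socSeries : ∀ (n : ℕ) (y : K ⊗[k] A), y ∈ socSeries K (K ⊗[k] A) (K ⊗[k] A) n →
    ∀ e : K →ₗ[k] k, lslice e y ∈ socSeries k A A n
  | 0, y, hy, e => by rw [(Submodule.mem_bot _).1 hy, map_zero]; exact zero_mem _
  | n + 1, y, hy, e => by
    show lslice e y ∈ fixStep (socSeries k A A n)
    refine mem_fixStep_of fun φ hφ => ?_
    let φK : K ⊗[k] A →ₗ[K] K :=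
      (AlgebraTensorModule.rid k K K).toLinearMap ∘ₗ φ.ofConv.baseChange K
    have key : ∀ y : K ⊗[k] A,
        lslice e ((toConv φK : Cv K (K ⊗[k] A)) • y) = φ • lslice e y := by
      intro y
      induction y using TensorProduct.induction_on with
      | zero => simp
      | add a b ha hb => simp only [smul_add, map_add, ha, hb]
      | tmul c a =>
        rw [lslice_tmul, smul_comm, smul_def, smul_def, act_apply, act_apply,
          show Comod.coact (k := K) (A := K ⊗[k] A) (c ⊗ₜ[k] a) = comul (R := K) (c ⊗ₜ[k] a) from rfl,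
          show Comod.coact (k := k) (A := A) a = comul (R := k) a from rfl]
        simp only [TensorProduct.comul_tmul, CommSemiring.comul_apply, ofConv_toConv]
        generalize comul (R := k) a = z
        induction z using TensorProduct.induction_on with
        | zero => simp
        | add p q hp hq => simp only [tmul_add, map_add, smul_add, hp, hq]
        | tmul p q =>
          simp [φK, smul_tmul', smul_smul, mul_comm]
    rw [← key]
    exact lslice_socSeries n _ (smul_mem_of_fixStep hy (φ := toConv φK) (by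
      simp [φK, Algebra.TensorProduct.one_def, hφ])) e

theorem socSeries_baseChange_le (n : ℕ) (y : K ⊗[k] A)
    (hy : y ∈ socSeries K (K ⊗[k] A) (K ⊗[k] A) n) :
    y ∈ LinearMap.range (((socSeries k A A n).restrictScalars k).subtype.lTensor K) :=
  (mem_range_lTensor_iff _ _).2 fun e => lslice_socSeries n y hy e

variable [Coalgebra.IsCocomm k A] [IsAlgClosed K]

/-- Dividing by the augmentation ideal of the unipotent part leaves a diagonalisable group. -/
theorem span_groupLike_quotient {Q : Type u} [CommRing Q] [Bialgebra k Q] (q : A →ₐc[k] Q)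
    (hq : Function.Surjective q)
    (hker : ∀ a ∈ unipSub k A, q a = algebraMap k Q (counit (R := k) a)) :
    Submodule.span K {x : K ⊗[k] Q | IsGroupLikeElem K x} = ⊤ := by
  let π : K ⊗[k] A →ₐc[K] K ⊗[k] Q := Bialgebra.TensorProduct.map (BialgHom.id K K) q
  have hπs : Function.Surjective π := by
    intro y
    induction y using TensorProduct.induction_on with
    | zero => exact ⟨0, map_zero π⟩
    | tmul c x =>
      obtain ⟨a, rfl⟩ := hq x
      exact ⟨c ⊗ₜ a, by simp [π]⟩
    | add a b ha hb =>
      obtain ⟨a, rfl⟩ := ha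
      obtain ⟨b, rfl⟩ := hb
      exact ⟨a + b, map_add π a b⟩
  refine top_le_iff.1 fun x _ => ?_
  obtain ⟨y, rfl⟩ := hπs x
  have hy : y ∈ Submodule.span K {x : K ⊗[k] A | ∃ g, IsGroupLikeElem K g ∧
      ∃ n, ∃ b ∈ socSeries K (K ⊗[k] A) (K ⊗[k] A) n, x = g * b} :=
    (span_groupLike_mul_eq_top (K := K) (H := K ⊗[k] A)).ge Submodule.mem_top
  induction hy using Submodule.span_induction with
  | mem y hy =>
    obtain ⟨g, hg, n, b, hb, rfl⟩ := hy
    obtain ⟨z, rfl⟩ := socSeries_baseChange_le n b hb
    rw [map_mul]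
    obtain ⟨c, hc⟩ : ∃ c : K, π (((socSeries k A A n).restrictScalars k).subtype.lTensor K z) =
        c • 1 := by
      suffices H' : ∀ z : K ⊗[k] ((socSeries k A A n).restrictScalars k), ∃ c : K,
          π (((socSeries k A A n).restrictScalars k).subtype.lTensor K z) = c • 1 from H' z
      intro z
      induction z using TensorProduct.induction_on with
      | zero => exact ⟨0, by simp⟩
      | add a b ha hb =>
        obtain ⟨a', ha'⟩ := ha
        obtain ⟨b', hb'⟩ := hb
        exact ⟨a' + b', by rw [map_add, map_add, ha', hb', add_smul]⟩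
      | tmul c a =>
        refine ⟨counit (R := k) (a : A) • c, ?_⟩
        rw [LinearMap.lTensor_tmul, Submodule.subtype_apply]
        simp only [π, Bialgebra.TensorProduct.map_tmul, BialgHom.coe_id, id_eq,
          hker (a : A) ⟨n, a.2⟩, Algebra.algebraMap_eq_smul_one, Algebra.TensorProduct.one_def,
          smul_tmul', smul_eq_mul, mul_one, tmul_smul]
    rw [hc, mul_smul_comm, mul_one]
    exact Submodule.smul_mem _ _ (Submodule.subset_span (hg.map π))
  | zero => simp
  | add a b _ _ ha hb => rw [map_add]; exact add_mem (ha Submodule.mem_top) (hb Submodule.mem_top)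
  | smul c a _ ha => rw [map_smul]; exact Submodule.smul_mem _ c (ha Submodule.mem_top)

end BaseChange

end Groth.Agent.CommGrpDecomp
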