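import Groth.Agent.ComodBasic.GeomConn
import Groth.Agent.ComodBasic.UnipotentBC
import Groth.Agent.HopfFF.SplitUnip
import Mathlib.FieldTheory.PurelyInseparable.Basic
import Mathlib.RingTheory.SimpleModule.Basic
import Mathlib.RingTheory.Artinian.Module

/-!
# Sections of an extension with finite etale kernel are cut out by idempotents

Used for descending the unique lifting of a connected group of multiplicative type.
-/

namespace Groth.Agent.CommGrpDecomp

open TensorProduct WithConv CoalgebraStruct HopfRep Groth.Agent.ComodBasic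

universe u

variable {k : Type u} [Field k] {K : Type u} [Field K] [Algebra k K]

theorem isDiagonalizable_map {B : Type u} [CommRing B] [HopfAlgebra k B] {L : Type u} [Field L] [Algebra k L]
    (s : L →ₐ[k] K) (h : HopfRep.IsDiagonalizable L (L ⊗[k] B)) : HopfRep.IsDiagonalizable K (K ⊗[k] B) := by
  have key : ∀ y ∈ Submodule.span L {g : L ⊗[k] B | IsGroupLikeElem L g},
      Algebra.TensorProduct.map s (AlgHom.id k B) y ∈ Submodule.span K {g : K ⊗[k] B | IsGroupLikeElem K g} := by
    intro y hy
    induction hy using Submodule.span_induction with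
    | mem g hg => exact Submodule.subset_span ((groupLike_map_iff s g).2 hg)
    | zero => simp
    | add u v _ _ hu hv => rw [map_add]; exact add_mem hu hv
    | smul c u _ hu =>
      have e : Algebra.TensorProduct.map s (AlgHom.id k B) (c • u) =
          s c • Algebra.TensorProduct.map s (AlgHom.id k B) u := by
        clear hu
        rename_i h1
        clear h1
        induction u using TensorProduct.induction_on with
        | zero => simp
        | add p q hp hq => simp only [smul_add, map_add, hp, hq]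
        | tmul d x => simp [smul_tmul']
      rw [e]
      exact Submodule.smul_mem _ _ hu
  refine top_le_iff.1 fun x _ => ?_
  induction x using TensorProduct.induction_on with
  | zero => exact zero_mem _
  | add x y hx hy => exact add_mem (hx trivial) (hy trivial)
  | tmul c b =>
    have := key _ (h.ge (Submodule.mem_top (x := (1 : L) ⊗ₜ[k] b)))
    rw [Algebra.TensorProduct.map_tmul, map_one, AlgHom.id_apply] at this
    rw [← mul_one c, ← smul_eq_mul, ← smul_tmul']
    exact Submodule.smul_mem _ _ this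

/-- a fixed element is killed into `k` by a power of the characteristic exponent -/
theorem exists_pow_mem_range [IsAlgClosed K] [Algebra.IsAlgebraic k K] (q : ℕ) [ExpChar k q] {x : K}
    (hx : ∀ σ : K ≃ₐ[k] K, σ x = x) : ∃ n, x ^ q ^ n ∈ (algebraMap k K).range := by
  haveI : IsAlgClosure k K := ⟨inferInstance, inferInstance⟩
  haveI : Normal k K := IsAlgClosure.normal k K
  let Ks := separableClosure k K
  haveI : ExpChar Ks q := expChar_of_injective_ringHom (algebraMap k Ks).injective q
  obtain ⟨n, y, hy⟩ := IsPurelyInseparable.pow_mem Ks q x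
  refine ⟨n, ?_⟩
  have hfix : ∀ τ : Ks ≃ₐ[k] Ks, τ y = y := fun τ => by
    apply (algebraMap Ks K).injective
    rw [← AlgEquiv.liftNormal_commutes τ K y, hy, map_pow, hx]
  obtain ⟨c, hc⟩ := (InfiniteGalois.mem_range_algebraMap_iff_fixed y).2 hfix
  exact ⟨c, by rw [← hy, ← hc]; exact IsScalarTower.algebraMap_apply k Ks K c⟩

variable [IsAlgClosed K] {A B : Type u} [CommRing A] [HopfAlgebra k A] [Algebra.FiniteType k A]
  [CommRing B] [HopfAlgebra k B]

/-- over an algebraically closed field: the retraction and the idempotent cutting it out -/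
theorem exists_retr_idem (hB : HopfRep.IsDiagonalizable K (K ⊗[k] B)) (ψ : B →ₐc[k] A)
    (hψ : Function.Injective ψ) (J : Ideal A) [J.IsHopfIdeal k]
    (hJ : J = Ideal.map (ψ : B →+* A) (RingHom.ker (Bialgebra.counitAlgHom k B)))
    (hU : HopfRep.IsUnipotent k (A ⧸ J)) [Algebra.Etale k (A ⧸ J)] :
    ∃ (r : K ⊗[k] A →ₐc[K] K ⊗[k] B) (e : K ⊗[k] A), IsIdempotentElem e ∧ r e = 0 ∧
      counit (R := K) e = 0 ∧ (∀ y, r (Algebra.TensorProduct.map (AlgHom.id K K) (ψ : B →ₐ[k] A) y) = y) ∧
      ∀ x, x * (1 - e) = Algebra.TensorProduct.map (AlgHom.id K K) (ψ : B →ₐ[k] A) (r x) * (1 - e) := by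
  classical
  let ψK : K ⊗[k] B →ₐc[K] K ⊗[k] A := Bialgebra.TensorProduct.map (BialgHom.id K K) ψ
  have hψK : Function.Injective ψK := by
    have := Module.Flat.lTensor_preserves_injective_linearMap (M := K) (ψ : B →ₐ[k] A).toLinearMap hψ
    exact this
  let π : K ⊗[k] A →ₐc[K] K ⊗[k] (A ⧸ J) :=
    Bialgebra.TensorProduct.map (BialgHom.id K K) (Bialgebra.Quotient.mkBialgHom (R := k) J)
  let JK : Ideal (K ⊗[k] A) := Ideal.map (ψK : K ⊗[k] B →+* K ⊗[k] A) (RingHom.ker (Bialgebra.counitAlgHom K (K ⊗[k] B)))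
  have hR := HopfFF.Split.isHopfSubalgebra_range (k := K) ψK
  have hJKeq : JK = SGA3.augIdealSpan K (K ⊗[k] A) (ψK : K ⊗[k] B →ₐ[K] K ⊗[k] A).range := by
    refine le_antisymm (Ideal.map_le_iff_le_comap.2 fun b hb => Ideal.subset_span ⟨⟨b, rfl⟩, ?_⟩)
      (Ideal.span_le.2 ?_)
    · show counit (R := K) (ψK b) = 0
      rw [CoalgHomClass.counit_comp_apply]
      exact hb
    · rintro a ⟨⟨b, rfl⟩, h0⟩
      refine Ideal.mem_map_of_mem _ ?_
      rw [RingHom.mem_ker]
      show counit (R := K) b = 0
      rw [← CoalgHomClass.counit_comp_apply ψK b]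
      exact h0
  haveI : JK.IsHopfIdeal K := hJKeq ▸ isHopfIdeal_augIdealSpan _ hR
  have hπψ : ∀ b, π (ψK b) = algebraMap K _ (counit (R := K) b) := by
    intro b
    induction b using TensorProduct.induction_on with
    | zero => simp
    | add x y hx hy => simp only [map_add, hx, hy]
    | tmul c b =>
      have h : Ideal.Quotient.mk J (ψ b) = algebraMap k (A ⧸ J) (counit (R := k) b) := by
        rw [← Ideal.Quotient.mk_algebraMap, Ideal.Quotient.eq, ← AlgHomClass.commutes ψ, ← map_sub, hJ]
        exact Ideal.mem_map_of_mem _ (by simp [RingHom.mem_ker])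
      simp [π, ψK, h, Algebra.algebraMap_eq_smul_one, smul_tmul', Algebra.TensorProduct.one_def, tmul_smul]
  have hker : RingHom.ker (π : K ⊗[k] A →ₐ[K] K ⊗[k] (A ⧸ J)) = JK := by
    refine le_antisymm (fun x hx => ?_) (Ideal.map_le_iff_le_comap.2 fun b hb => ?_)
    · obtain ⟨z, rfl⟩ := (Module.Flat.lTensor_exact K
        (LinearMap.exact_subtype_ker_map (Ideal.Quotient.mkₐ k J).toLinearMap) x).1 hx
      clear hx
      induction z using TensorProduct.induction_on with
      | zero => simp
      | add x y hx hy => rw [map_add]; exact add_mem hx hy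
      | tmul c a =>
        rw [LinearMap.lTensor_tmul, Submodule.subtype_apply, ← mul_one c, ← smul_eq_mul, ← smul_tmul', Algebra.smul_def]
        refine Ideal.mul_mem_left _ _ ?_
        have hle : J ≤ JK.comap (Algebra.TensorProduct.includeRight : A →ₐ[k] K ⊗[k] A) := by
          rw [hJ, Ideal.map_le_iff_le_comap]
          intro b hb
          show (1 : K) ⊗ₜ[k] ψ b ∈ JK
          have := Ideal.mem_map_of_mem (ψK : K ⊗[k] B →+* K ⊗[k] A)
            (I := RingHom.ker (Bialgebra.counitAlgHom K (K ⊗[k] B))) (x := (1 : K) ⊗ₜ[k] b)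
            (by simp [RingHom.mem_ker, show counit (R := k) b = 0 from hb])
          simpa [ψK] using this
        exact hle (Ideal.Quotient.eq_zero_iff_mem.1 a.2)
    · show π (ψK b) = 0
      rw [hπψ, show counit (R := K) b = 0 from hb, map_zero]
  have hπs : Function.Surjective π := fun y =>
    LinearMap.lTensor_surjective K (g := (Ideal.Quotient.mkₐ k J).toLinearMap) Ideal.Quotient.mk_surjective y
  let πb : (K ⊗[k] A) ⧸ JK →ₐ[K] K ⊗[k] (A ⧸ J) :=
    Ideal.Quotient.liftₐ JK (π : K ⊗[k] A →ₐ[K] K ⊗[k] (A ⧸ J)) fun x hx => hker.ge hx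
  have hπb : Function.Injective πb := by
    rw [injective_iff_map_eq_zero]
    intro q hq
    obtain ⟨x, rfl⟩ := Ideal.Quotient.mk_surjective q
    exact Ideal.Quotient.eq_zero_iff_mem.2 (hker.le hq)
  let qK : K ⊗[k] A →ₐc[K] (K ⊗[k] A) ⧸ JK := Bialgebra.Quotient.mkBialgHom (R := K) JK
  let πB : (K ⊗[k] A) ⧸ JK →ₐc[K] K ⊗[k] (A ⧸ J) := BialgHom.ofAlgHom πb
    (AlgHom.ext fun q => by
      obtain ⟨x, rfl⟩ := Ideal.Quotient.mk_surjective q
      exact (CoalgHomClass.counit_comp_apply π x).trans (CoalgHomClass.counit_comp_apply qK x).symm)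
    (AlgHom.ext fun q => by
      obtain ⟨x, rfl⟩ := Ideal.Quotient.mk_surjective q
      show Algebra.TensorProduct.map πb πb (comul (R := K) (qK x)) = comul (R := K) (π x)
      rw [← CoalgHomClass.map_comp_comul_apply qK, ← CoalgHomClass.map_comp_comul_apply π]
      generalize comul (R := K) x = z
      induction z using TensorProduct.induction_on with
      | zero => simp
      | add p q hp hq => simp only [map_add, hp, hq]
      | tmul p q => rfl)
  have hUK : HopfRep.IsUnipotent K (K ⊗[k] (A ⧸ J)) := isUnipotent_baseChange_iff.1 hU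
  have hUJ : HopfRep.IsUnipotent K ((K ⊗[k] A) ⧸ JK) :=
    isUnipotent πB hπb fun q => exists_mem_socSeries hUK (πB q)
  obtain ⟨r, hr⟩ := HopfFF.Split.exists_retraction ψK hB hψK JK rfl hUJ
  have hr' : ∀ b, r (ψK b) = b := fun b => DFunLike.congr_fun hr b
  -- the idempotent
  haveI : Module.Finite k (A ⧸ J) := Algebra.FormallyUnramified.finite_of_free k _
  haveI : IsReduced (A ⧸ J) := Algebra.FormallyUnramified.isReduced_of_field k _
  haveI : IsArtinianRing (A ⧸ J) := IsArtinianRing.of_finite k _
  haveI : IsSemisimpleRing (A ⧸ J) := IsArtinianRing.isSemisimpleRing_of_isReduced _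
  obtain ⟨f, hf, hfker⟩ := IsSemisimpleRing.ideal_eq_span_idempotent
    (RingHom.ker (Bialgebra.counitAlgHom k (A ⧸ J)))
  have hfε : counit (R := k) f = 0 := by
    have h : f ∈ RingHom.ker (Bialgebra.counitAlgHom k (A ⧸ J)) := hfker.ge (Ideal.mem_span_singleton_self f)
    exact h
  have hmul : ∀ y : K ⊗[k] (A ⧸ J), y * (1 - (1 : K) ⊗ₜ[k] f) = counit (R := K) y • (1 - (1 : K) ⊗ₜ[k] f) := by
    intro y
    induction y using TensorProduct.induction_on with
    | zero => simp
    | add x y hx hy => rw [add_mul, map_add, add_smul, hx, hy]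
    | tmul c a =>
      obtain ⟨t, ht⟩ := Ideal.mem_span_singleton'.1
        (hfker.le (show a - algebraMap k _ (counit (R := k) a) ∈ RingHom.ker (Bialgebra.counitAlgHom k (A ⧸ J)) by
          simp [RingHom.mem_ker]))
      have e : a * (1 - f) = counit (R := k) a • (1 - f) := by
        have h0 : (a - algebraMap k _ (counit (R := k) a)) * (1 - f) = 0 := by
          rw [← ht, mul_assoc, mul_sub, mul_one, hf.eq, sub_self, mul_zero]
        rw [sub_mul, sub_eq_zero] at h0
        rw [h0, Algebra.smul_def]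
      rw [show (1 : K ⊗[k] (A ⧸ J)) - (1 : K) ⊗ₜ[k] f = (1 : K) ⊗ₜ[k] (1 - f) by
        rw [tmul_sub, ← Algebra.TensorProduct.one_def], Algebra.TensorProduct.tmul_mul_tmul, mul_one, e,
        TensorProduct.counit_tmul, CommSemiring.counit_apply, tmul_smul, smul_tmul', smul_tmul']
      simp [Algebra.smul_def, mul_comm]
  let ψr : WithConv (K ⊗[k] A →ₐ[K] K ⊗[k] A) :=
    toConv ((ψK : K ⊗[k] B →ₐ[K] K ⊗[k] A).comp (r : K ⊗[k] A →ₐ[K] K ⊗[k] B))
  let ψrS : WithConv (K ⊗[k] A →ₐ[K] K ⊗[k] A) := toConv (ψr.ofConv.comp (HopfAlgebra.antipodeAlgHom K _))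
  let idc : WithConv (K ⊗[k] A →ₐ[K] K ⊗[k] A) := toConv (AlgHom.id K _)
  let Θ : WithConv (K ⊗[k] A →ₐ[K] K ⊗[k] A) := ψrS * idc
  have hinv : ψr * ψrS = 1 := by
    refine WithConv.ext (AlgHom.ext fun a => ?_)
    rw [AlgHom.convMul_apply, AlgHom.convOne_apply]
    refine Eq.trans ?_ ((congrArg ψr.ofConv (HopfAlgebra.mul_antipode_lTensor_comul_apply (R := K) a)).trans
      (ψr.ofConv.commutes _))
    generalize comul (R := K) a = z
    induction z using TensorProduct.induction_on with
    | zero => simp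
    | add p q hp hq => simp only [map_add, hp, hq]
    | tmul p q => simp [ψrS]
  have hΘ : ψr * Θ = idc := by rw [← mul_assoc, hinv, one_mul]
  have hinv2 : ψrS * ψr = 1 := by
    refine WithConv.ext (AlgHom.ext fun a => ?_)
    rw [AlgHom.convMul_apply, AlgHom.convOne_apply]
    refine Eq.trans ?_ ((congrArg ψr.ofConv (HopfAlgebra.mul_antipode_rTensor_comul_apply (R := K) a)).trans
      (ψr.ofConv.commutes _))
    generalize comul (R := K) a = z
    induction z using TensorProduct.induction_on with
    | zero => simp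
    | add p q hp hq => simp only [map_add, hp, hq]
    | tmul p q => simp [ψrS]
  have hΘψ : ∀ b, Θ.ofConv (ψK b) = algebraMap K _ (counit (R := K) b) := by
    intro b
    rw [← CoalgHomClass.counit_comp_apply ψK b, ← AlgHom.convOne_apply (R := K) (ψK b), ← hinv2,
      AlgHom.convMul_apply, AlgHom.convMul_apply, ← CoalgHomClass.map_comp_comul_apply ψK]
    generalize comul (R := K) b = z
    induction z using TensorProduct.induction_on with
    | zero => simp
    | add p q hp hq => simp only [map_add, hp, hq]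
    | tmul p q => simp [ψr, idc, hr']
  have hΘker : RingHom.ker (π : K ⊗[k] A →ₐ[K] K ⊗[k] (A ⧸ J)) ≤ RingHom.ker Θ.ofConv := by
    rw [hker]
    refine Ideal.map_le_iff_le_comap.2 fun b hb => ?_
    show Θ.ofConv (ψK b) = 0
    rw [hΘψ, show counit (R := K) b = 0 from hb, map_zero]
  obtain ⟨x₀, hx₀⟩ := hπs ((1 : K) ⊗ₜ[k] f)
  let e := Θ.ofConv x₀
  have hfac : ∀ x y, π x = π y → Θ.ofConv x = Θ.ofConv y := fun x y h => by
    rw [← sub_eq_zero, ← map_sub]
    exact hΘker (by rw [RingHom.mem_ker, map_sub, sub_eq_zero]; exact h)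
  have hεΘ : ∀ x, r (Θ.ofConv x) = algebraMap K _ (counit (R := K) x) := by
    intro x
    refine hψK ?_
    rw [AlgHomClass.commutes ψK, ← AlgHom.convOne_apply (R := K) x, ← hinv2]
    rw [AlgHom.convMul_apply, AlgHom.convMul_apply]
    generalize comul (R := K) x = z
    induction z using TensorProduct.induction_on with
    | zero => simp
    | add p q hp hq => simp only [map_add, hp, hq]
    | tmul p q => simp [ψrS, ψr, idc, hr']
  have hεx₀ : counit (R := K) x₀ = 0 := by
    rw [← CoalgHomClass.counit_comp_apply π x₀, hx₀]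
    simp [hfε]
  have hre : r e = 0 := by rw [hεΘ, hεx₀, map_zero]
  refine ⟨r, e, ?_, hre, ?_, fun y => hr' y, fun x => ?_⟩
  · show Θ.ofConv x₀ * Θ.ofConv x₀ = Θ.ofConv x₀
    rw [← map_mul]
    refine hfac _ _ ?_
    rw [map_mul, hx₀, Algebra.TensorProduct.tmul_mul_tmul, mul_one, hf.eq]
  · rw [← CoalgHomClass.counit_comp_apply r e, hre, map_zero]
  · have hΘmul : ∀ x, Θ.ofConv x * (1 - e) = counit (R := K) x • (1 - e) := by
      intro x
      show Θ.ofConv x * (1 - Θ.ofConv x₀) = counit (R := K) x • (1 - Θ.ofConv x₀)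
      rw [← map_one Θ.ofConv, ← map_sub, ← map_mul, ← map_smul]
      refine hfac _ _ ?_
      rw [map_mul, map_smul, map_sub, map_one, hx₀, hmul, CoalgHomClass.counit_comp_apply]
    show x * (1 - e) = ψr.ofConv x * (1 - e)
    conv_lhs => rw [show x = (idc).ofConv x from rfl, ← hΘ, AlgHom.convMul_apply]
    have h2 : ψr.ofConv x = ψr.ofConv (slice (counit (R := K)) (comul (R := K) x)) := by rw [HopfFF.Split.slice_comul_counit]
    rw [h2]
    generalize comul (R := K) x = z
    induction z using TensorProduct.induction_on with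
    | zero => simp
    | add p q hp hq => simp only [map_add, add_mul, hp, hq]
    | tmul p q =>
      simp only [Algebra.TensorProduct.lift_tmul, Algebra.TensorProduct.map_tmul, Algebra.TensorProduct.lmul'_apply_tmul, slice_tmul, map_smul]
      rw [mul_assoc, hΘmul, smul_mul_assoc, mul_smul_comm]

end Groth.Agent.CommGrpDecomp
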