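import Mathlib.RingTheory.HopfAlgebra.Basic
import Mathlib.RingTheory.HopfAlgebra.Convolution
import Mathlib.RingTheory.Bialgebra.Hom
import Mathlib.RingTheory.Flat.Basic
import Mathlib.RingTheory.Flat.Tensor
import Mathlib.LinearAlgebra.Dimension.DivisionRing

/-!
# The Hopf algebra structure on a Hopf subalgebra over a field, in any universe
-/

namespace Groth.Agent.CommGrpDecomp.SubV

open TensorProduct

universe u v

variable {k : Type u} [Field k] {A : Type v} [CommRing A] [HopfAlgebra k A]
  {B : Subalgebra k A} (hB : (∀ b ∈ B, CoalgebraStruct.comul (R := k) (A := A) b ∈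
      LinearMap.range (TensorProduct.map B.val.toLinearMap B.val.toLinearMap)) ∧
    ∀ b ∈ B, HopfAlgebraStruct.antipode (R := k) (A := A) b ∈ B)

/-- `B ⊗ B → A ⊗ A` -/
noncomputable def incl2 (B : Subalgebra k A) : B ⊗[k] B →ₐ[k] A ⊗[k] A :=
  Algebra.TensorProduct.map B.val B.val

theorem incl2_injective : Function.Injective (incl2 B) :=
  TensorProduct.map_injective_of_flat_flat B.val.toLinearMap B.val.toLinearMap
    Subtype.val_injective Subtype.val_injective

/-- comultiplication of a Hopf subalgebra -/
noncomputable def comulHom : B →ₐ[k] B ⊗[k] B :=
  ((AlgEquiv.ofInjective (incl2 B) incl2_injective).symm : (incl2 B).range →ₐ[k] B ⊗[k] B).comp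
    (((Bialgebra.comulAlgHom k A).comp B.val).codRestrict (incl2 B).range fun b => hB.1 b b.2)

theorem incl2_comulHom (b : B) :
    incl2 B (comulHom hB b) = Coalgebra.comul (R := k) (b : A) :=
  congrArg Subtype.val ((AlgEquiv.ofInjective (incl2 B) incl2_injective).apply_symm_apply _)

/-- the bialgebra structure -/
@[reducible] noncomputable def bialgebra : Bialgebra k B := by
  refine Bialgebra.ofAlgHom (comulHom hB) ((Bialgebra.counitAlgHom k A).comp B.val) ?_ ?_ ?_
  · refine AlgHom.ext fun b => ?_
    have hi : Function.Injective (TensorProduct.map B.val.toLinearMap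
        (TensorProduct.map B.val.toLinearMap B.val.toLinearMap)) :=
      TensorProduct.map_injective_of_flat_flat _ _ Subtype.val_injective incl2_injective
    refine hi ?_
    have h := Coalgebra.coassoc_apply (R := k) (A := A) (b : A)
    rw [← incl2_comulHom hB] at h
    simp only [AlgHom.comp_apply]
    generalize comulHom hB b = z at h ⊢
    refine Eq.trans ?_ (h.trans ?_) <;> clear h
    · induction z using TensorProduct.induction_on with
      | zero => simp
      | add x y hx hy => simp only [map_add, hx, hy]
      | tmul x y =>
        simp only [incl2, Algebra.TensorProduct.map_tmul, AlgHom.coe_id, id_eq,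
          LinearMap.rTensor_tmul, Subalgebra.coe_val, ← incl2_comulHom hB]
        generalize comulHom hB x = w
        induction w using TensorProduct.induction_on with
        | zero => simp
        | add p q hp hq => simp only [map_add, add_tmul, hp, hq]
        | tmul p q => simp
    · induction z using TensorProduct.induction_on with
      | zero => simp
      | add x y hx hy => simp only [map_add, hx, hy]
      | tmul x y =>
        simp only [incl2, Algebra.TensorProduct.map_tmul, LinearMap.lTensor_tmul, Subalgebra.coe_val,
          ← incl2_comulHom hB]
        generalize comulHom hB y = w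
        induction w using TensorProduct.induction_on with
        | zero => simp
        | add p q hp hq => simp only [map_add, tmul_add, hp, hq]
        | tmul p q => simp [← incl2_comulHom hB]
  · refine AlgHom.ext fun b => (Algebra.TensorProduct.lid k B).injective (Subtype.ext ?_)
    have h := congrArg (TensorProduct.lid k A) (Coalgebra.rTensor_counit_comul (R := k) (b : A))
    rw [← incl2_comulHom hB] at h
    simp only [AlgHom.comp_apply]
    generalize comulHom hB b = z at h ⊢
    simp only [AlgEquiv.coe_toAlgHom, AlgEquiv.apply_symm_apply]
    rw [lid_tmul, one_smul] at h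
    refine Eq.trans ?_ h
    clear h
    induction z using TensorProduct.induction_on with
    | zero => simp
    | add x y hx hy => simp only [map_add, Subalgebra.coe_add, hx, hy]
    | tmul x y => simp [incl2]
  · refine AlgHom.ext fun b => (Algebra.TensorProduct.rid k k B).injective (Subtype.ext ?_)
    have h := congrArg (TensorProduct.rid k A) (Coalgebra.lTensor_counit_comul (R := k) (b : A))
    rw [← incl2_comulHom hB] at h
    simp only [AlgHom.comp_apply]
    generalize comulHom hB b = z at h ⊢
    simp only [AlgEquiv.coe_toAlgHom, AlgEquiv.apply_symm_apply]
    rw [TensorProduct.rid_tmul, one_smul] at h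
    refine Eq.trans ?_ h
    clear h
    induction z using TensorProduct.induction_on with
    | zero => simp
    | add x y hx hy => simp only [map_add, Subalgebra.coe_add, hx, hy]
    | tmul x y => simp [incl2]

/-- the antipode restricted -/
noncomputable def antipodeHom : B →ₐ[k] B :=
  ((HopfAlgebra.antipodeAlgHom k A).comp B.val).codRestrict B fun b => hB.2 b b.2

/-- the Hopf algebra structure -/
@[reducible] noncomputable def hopfAlgebra : HopfAlgebra k B :=
  letI := bialgebra hB
  HopfAlgebra.ofAlgHom (antipodeHom hB)
    (AlgHom.ext fun b => Subtype.ext (by
      have h := HopfAlgebra.mul_antipode_rTensor_comul_apply (R := k) (b : A)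
      rw [← incl2_comulHom hB] at h
      simp only [AlgHom.comp_apply]
      change ((Algebra.TensorProduct.lift (antipodeHom hB) (AlgHom.id k B)
        (fun _ _ => Commute.all _ _) (comulHom hB b) : B) : A) =
        algebraMap k A (Coalgebra.counit (R := k) (b : A))
      rw [← h]
      clear h
      generalize comulHom hB b = z
      induction z using TensorProduct.induction_on with
      | zero => simp
      | add x y hx hy => simp only [map_add, Subalgebra.coe_add, hx, hy]
      | tmul x y => simp [incl2, antipodeHom]))
    (AlgHom.ext fun b => Subtype.ext (by
      have h := HopfAlgebra.mul_antipode_lTensor_comul_apply (R := k) (b : A)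
      rw [← incl2_comulHom hB] at h
      simp only [AlgHom.comp_apply]
      change ((Algebra.TensorProduct.lift (AlgHom.id k B) (antipodeHom hB)
        (fun _ _ => Commute.all _ _) (comulHom hB b) : B) : A) =
        algebraMap k A (Coalgebra.counit (R := k) (b : A))
      rw [← h]
      clear h
      generalize comulHom hB b = z
      induction z using TensorProduct.induction_on with
      | zero => simp
      | add x y hx hy => simp only [map_add, Subalgebra.coe_add, hx, hy]
      | tmul x y => simp [incl2, antipodeHom]))

/-- the inclusion as a bialgebra map -/
noncomputable def valBialg : letI := hopfAlgebra hB; B →ₐc[k] A :=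
  letI := hopfAlgebra hB
  BialgHom.ofAlgHom B.val (AlgHom.ext fun _ => rfl)
    (AlgHom.ext fun b => incl2_comulHom hB b)

theorem valBialg_apply (b : B) : letI := hopfAlgebra hB; valBialg hB b = (b : A) := rfl

end Groth.Agent.CommGrpDecomp.SubV
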