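import Groth.Agent.CommGrpDecomp.SubHopf
import Groth.Agent.ComodBasic.Unipotent
import Groth.Agent.ComodBasic.Integral
import Mathlib.RingTheory.HopfAlgebra.Quotient

/-!
# The unipotent Hopf subalgebra of a cocommutative Hopf algebra
-/

namespace Groth.Agent.CommGrpDecomp

open TensorProduct WithConv CoalgebraStruct HopfRep Groth.Agent.ComodBasic

universe u

variable {k : Type u} [Field k] {A : Type u} [CommRing A] [HopfAlgebra k A]

theorem mul_mem_range_rTensor {P Q S : Submodule k A} (h : ∀ p ∈ P, ∀ q ∈ Q, p * q ∈ S)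
    {z w : A ⊗[k] A} (hz : z ∈ LinearMap.range (P.subtype.rTensor A))
    (hw : w ∈ LinearMap.range (Q.subtype.rTensor A)) :
    z * w ∈ LinearMap.range (S.subtype.rTensor A) := by
  obtain ⟨z, rfl⟩ := hz
  obtain ⟨w, rfl⟩ := hw
  induction z using TensorProduct.induction_on with
  | zero => simp
  | add x y hx hy => rw [map_add, add_mul]; exact add_mem hx hy
  | tmul p a =>
    induction w using TensorProduct.induction_on with
    | zero => simp
    | add x y hx hy => rw [map_add, mul_add]; exact add_mem hx hy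
    | tmul q c =>
      exact ⟨⟨(p : A) * q, h p p.2 q q.2⟩ ⊗ₜ (a * c), by simp⟩

theorem socSeries_mul_mem : ∀ (n i j : ℕ), i + j ≤ n → ∀ a ∈ socSeries k A A i,
    ∀ b ∈ socSeries k A A j, a * b ∈ socSeries k A A n
  | n, 0, j, _, a, ha, b, _ => by
    rw [(Submodule.mem_bot _).1 ha, zero_mul]; exact zero_mem _
  | n, i + 1, 0, _, a, _, b, hb => by
    rw [(Submodule.mem_bot _).1 hb, mul_zero]; exact zero_mem _
  | 0, i + 1, j + 1, h, _, _, _, _ => by omega
  | n + 1, i + 1, j + 1, h, a, ha, b, hb => by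
    show a * b ∈ fixStep (socSeries k A A n)
    rw [← mem_fixStep_iff_coact]
    let R : ℕ → Submodule k (A ⊗[k] A) := fun m =>
      LinearMap.range (((socSeries k A A m).restrictScalars k).subtype.rTensor A)
    have hsub : ∀ (m : ℕ) (x : A), x ∈ socSeries k A A m → comul (R := k) x ∈ R m := fun m x hx =>
      (mem_range_rTensor_iff _ _).2 fun φ => (socSeries k A A m).smul_mem (toConv φ) hx
    have h1 := mul_mem_range_rTensor (S := (socSeries k A A n).restrictScalars k)
      (fun p hp q hq => socSeries_mul_mem n i (j + 1) (by omega) p hp q hq)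
      ((mem_fixStep_iff_coact (socSeries k A A i) a).2 ha) (hsub (j + 1) b hb)
    have h2 := mul_mem_range_rTensor (S := (socSeries k A A n).restrictScalars k)
      (fun p hp q hq => socSeries_mul_mem n (i + 1) j (by omega) p hp q hq)
      (show a ⊗ₜ[k] (1 : A) ∈ R (i + 1) from ⟨⟨a, ha⟩ ⊗ₜ 1, by simp⟩)
      ((mem_fixStep_iff_coact (socSeries k A A j) b).2 hb)
    convert add_mem h1 h2 using 1
    show comul (R := k) (a * b) - (a * b) ⊗ₜ[k] (1 : A) =
      (comul (R := k) a - a ⊗ₜ 1) * comul (R := k) b + a ⊗ₜ 1 * (comul (R := k) b - b ⊗ₜ 1)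
    rw [Bialgebra.comul_mul, sub_mul, mul_sub, Algebra.TensorProduct.tmul_mul_tmul, one_mul]
    abel

variable (k A) in
/-- the unipotent part: the union of the socle series of the regular comodule -/
noncomputable def unipSub : Subalgebra k A where
  carrier := {a | ∃ n, a ∈ socSeries k A A n}
  mul_mem' := fun ⟨i, ha⟩ ⟨j, hb⟩ => ⟨i + j, socSeries_mul_mem _ i j le_rfl _ ha _ hb⟩
  add_mem' := fun ⟨i, ha⟩ ⟨j, hb⟩ => ⟨max i j, add_mem (socSeries_mono (le_max_left i j) ha)
    (socSeries_mono (le_max_right i j) hb)⟩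
  algebraMap_mem' r := ⟨1, show algebraMap k A r ∈ (socSeries k A A 1).restrictScalars k by
    rw [socSeries_one_regular, Algebra.algebraMap_eq_smul_one]
    exact Submodule.smul_mem _ r (Submodule.mem_span_singleton_self _)⟩

theorem comul_antipode_of_cocomm [Coalgebra.IsCocomm k A] (a : A) :
    comul (R := k) (HopfAlgebra.antipode k a) =
      TensorProduct.map (HopfAlgebra.antipode k) (HopfAlgebra.antipode k) (comul (R := k) a) := by
  conv_lhs => rw [ComodBasic.comul_antipode, ← Coalgebra.comm_comul k a]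
  generalize comul (R := k) a = z
  induction z using TensorProduct.induction_on with
  | zero => simp
  | add x y hx hy => simp only [map_add, hx, hy]
  | tmul x y => simp

theorem antipode_mem_socSeries [Coalgebra.IsCocomm k A] : ∀ (n : ℕ) (a : A),
    a ∈ socSeries k A A n → HopfAlgebra.antipode k a ∈ socSeries k A A n
  | 0, a, ha => by rw [(Submodule.mem_bot _).1 ha, map_zero]; exact zero_mem _
  | n + 1, a, ha => by
    show _ ∈ fixStep (socSeries k A A n)
    rw [← mem_fixStep_iff_coact]
    obtain ⟨z, hz⟩ := (mem_fixStep_iff_coact (socSeries k A A n) a).2 ha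
    have h : comul (R := k) (HopfAlgebra.antipode k a) - HopfAlgebra.antipode k a ⊗ₜ[k] (1 : A) =
        TensorProduct.map (HopfAlgebra.antipode k) (HopfAlgebra.antipode k)
          (comul (R := k) a - a ⊗ₜ 1) := by
      rw [map_sub, comul_antipode_of_cocomm, TensorProduct.map_tmul, HopfAlgebra.antipode_one]
    show comul (R := k) (HopfAlgebra.antipode k a) - HopfAlgebra.antipode k a ⊗ₜ[k] (1 : A) ∈ _
    rw [h, show (comul (R := k) a - a ⊗ₜ[k] (1 : A)) = _ from hz.symm]
    clear hz h
    induction z using TensorProduct.induction_on with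
    | zero => simp
    | add x y hx hy => rw [map_add, map_add]; exact add_mem hx hy
    | tmul x y =>
      exact ⟨⟨HopfAlgebra.antipode k (x : A), antipode_mem_socSeries n _ x.2⟩ ⊗ₜ
        HopfAlgebra.antipode k y, by simp⟩

theorem isHopfSubalgebra_unipSub [Coalgebra.IsCocomm k A] :
    SGA3.IsHopfSubalgebra k A (unipSub k A) := by
  refine ⟨?_, fun b ⟨n, hn⟩ => ⟨n, antipode_mem_socSeries n b hn⟩⟩
  rintro b ⟨n, hn⟩
  refine SetLike.le_def.1 (iSup_le fun i => iSup_le fun _ => ?_)
    (comul_mem_socSeries n b (socSeries_mono n.le_succ hn))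
  rw [TensorProduct.mapIncl]
  intro z hz
  rw [mem_range_map_iff] at hz
  refine (mem_range_map_iff (Subalgebra.toSubmodule (unipSub k A))
    (Subalgebra.toSubmodule (unipSub k A)) z).2 ⟨fun φ => ⟨_, hz.1 φ⟩, fun ξ => ⟨_, hz.2 ξ⟩⟩

section Unipotent

variable {B : Type u} [CommRing B] [Bialgebra k B] (φ : B →ₐc[k] A)

theorem map_smul_regular (θ : Cv k A) (b : B) :
    φ (toConv (θ.ofConv ∘ₗ (φ : B →ₐ[k] A).toLinearMap) • b) = θ • φ b := by
  rw [smul_def, smul_def, act_apply, act_apply,
    show Comod.coact (k := k) (A := A) (φ b) = comul (R := k) (φ b) from rfl,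
    show Comod.coact (k := k) (A := B) b = comul (R := k) b from rfl,
    ← CoalgHomClass.map_comp_comul_apply φ]
  generalize comul (R := k) b = z
  induction z using TensorProduct.induction_on with
  | zero => simp
  | add x y hx hy => simp only [map_add, hx, hy]
  | tmul x y => simp

/-- A bialgebra embedded into the union of the socle series is unipotent. -/
theorem isUnipotent (hinj : Function.Injective φ) (hB : ∀ b, ∃ n, φ b ∈ socSeries k A A n) :
    IsUnipotent k B := by
  intro V _ _ _ _ hV
  let P : ℕ → Prop := fun n => ∃ v : V, v ≠ 0 ∧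
    ∀ ξ : V →ₗ[k] k, φ ((coef ξ : V →ₗ[Cv k B] B) v) ∈ socSeries k A A n
  have hex : ∃ n, P n := by
    obtain ⟨v, hv⟩ := exists_ne (0 : V)
    suffices h : ∀ z : V ⊗[k] B, ∃ n, ∀ ξ : V →ₗ[k] k, φ (lslice ξ z) ∈ socSeries k A A n by
      obtain ⟨n, hn⟩ := h (Comod.coact (k := k) (A := B) v)
      exact ⟨n, v, hv, hn⟩
    intro z
    induction z using TensorProduct.induction_on with
    | zero => exact ⟨0, fun ξ => by simp⟩
    | add x y hx hy =>
      obtain ⟨m, hm⟩ := hx
      obtain ⟨n, hn⟩ := hy
      exact ⟨max m n, fun ξ => by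
        rw [map_add, map_add]
        exact add_mem (socSeries_mono (le_max_left m n) (hm ξ))
          (socSeries_mono (le_max_right m n) (hn ξ))⟩
    | tmul x y =>
      obtain ⟨n, hn⟩ := hB y
      exact ⟨n, fun ξ => by
        rw [lslice_tmul, map_smul]
        exact ((socSeries k A A n).restrictScalars k).smul_mem _ hn⟩
  classical
  obtain ⟨v, hv, hvn⟩ := Nat.find_spec hex
  obtain ⟨m, hm⟩ : ∃ m, Nat.find hex = m + 1 := by
    refine Nat.exists_eq_succ_of_ne_zero fun h => hv ?_
    rw [h] at hvn
    refine (Module.forall_dual_apply_eq_zero_iff k v).1 fun ξ => ?_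
    rw [← counit_coef (C := B) ξ v,
      hinj ((show φ ((coef ξ : V →ₗ[Cv k B] B) v) = 0 from (Submodule.mem_bot _).1 (hvn ξ)).trans
        (map_zero φ).symm), map_zero]
  rw [hm] at hvn
  have hkill : ∀ θ : Cv k A, θ.ofConv 1 = 0 →
      (toConv (θ.ofConv ∘ₗ (φ : B →ₐ[k] A).toLinearMap) : Cv k B) • v = 0 := by
    intro θ hθ
    by_contra hne
    refine Nat.find_min hex (m := m) (by omega) ⟨_, hne, fun ξ => ?_⟩
    rw [map_smul, map_smul_regular]
    exact smul_mem_of_fixStep (hvn ξ) hθ
  intro hbot
  refine hv ((Submodule.eq_bot_iff _).1 hbot v (mem_fixedPts_iff.2 fun ψ => ?_))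
  obtain ⟨p, hp⟩ := (φ : B →ₐ[k] A).toLinearMap.exists_leftInverse_of_injective
    (LinearMap.ker_eq_bot.2 hinj)
  let θ : Cv k A := toConv (ψ.ofConv ∘ₗ p - ψ.ofConv 1 • counit)
  have hp1 : p 1 = 1 := by
    have h := LinearMap.congr_fun hp 1
    simpa using h
  have h := hkill θ (by simp [θ, hp1])
  have e : (toConv (θ.ofConv ∘ₗ (φ : B →ₐ[k] A).toLinearMap) : Cv k B) = ψ - ψ.ofConv 1 • 1 := by
    refine WithConv.ext (LinearMap.ext fun b => ?_)
    have hb : p (φ b) = b := LinearMap.congr_fun hp b
    simp [θ, hb, CoalgHomClass.counit_comp_apply, convOne_eq]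
  rw [e, sub_smul, smul_assoc, one_smul, sub_eq_zero] at h
  exact h

end Unipotent

section Aug

variable (B : Subalgebra k A)

theorem mk_eq_counit {a : A} (ha : a ∈ B) :
    Ideal.Quotient.mk (SGA3.augIdealSpan k A B) a =
      algebraMap k (A ⧸ SGA3.augIdealSpan k A B) (counit (R := k) a) := by
  rw [← Ideal.Quotient.mk_algebraMap, Ideal.Quotient.eq]
  exact Ideal.subset_span ⟨sub_mem ha (B.algebraMap_mem _), by simp⟩

theorem isHopfIdeal_augIdealSpan (hB : SGA3.IsHopfSubalgebra k A B) :
    (SGA3.augIdealSpan k A B).IsHopfIdeal k := by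
  set J := SGA3.augIdealSpan k A B with hJ
  have hc : ((J.restrictScalars k)).IsCoideal := by
    refine ⟨fun x hx => ?_, fun x hx => ?_⟩
    · have h : J ≤ RingHom.ker (Bialgebra.counitAlgHom k A) := Ideal.span_le.2 fun a ha => ha.2
      exact h hx
    · let q := Ideal.Quotient.mkₐ k J
      let P := (Algebra.TensorProduct.map q q).comp (Bialgebra.comulAlgHom k A)
      have h : J ≤ RingHom.ker P := by
        refine Ideal.span_le.2 fun a ha => ?_
        obtain ⟨z, hz⟩ := hB.1 a ha.1
        show Algebra.TensorProduct.map q q (comul (R := k) a) = 0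
        have key : ∀ z : B ⊗[k] B,
            Algebra.TensorProduct.map q q (TensorProduct.map B.val.toLinearMap B.val.toLinearMap z) =
              algebraMap k _ (counit (R := k) (TensorProduct.lid k A (counit.rTensor A
                (TensorProduct.map B.val.toLinearMap B.val.toLinearMap z)))) := by
          intro z
          induction z using TensorProduct.induction_on with
          | zero => simp
          | add x y hx hy => simp only [map_add, hx, hy]
          | tmul x y =>
            simp only [TensorProduct.map_tmul, AlgHom.toLinearMap_apply, Subalgebra.coe_val,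
              Algebra.TensorProduct.map_tmul, LinearMap.rTensor_tmul, lid_tmul, map_smul,
              smul_eq_mul, q, Ideal.Quotient.mkₐ_eq_mk, J, mk_eq_counit B x.2, mk_eq_counit B y.2]
            rw [Algebra.algebraMap_eq_smul_one, Algebra.algebraMap_eq_smul_one,
              Algebra.algebraMap_eq_smul_one, ← smul_tmul', tmul_smul, smul_smul,
              ← Algebra.TensorProduct.one_def]
        rw [← hz, key, hz, Coalgebra.rTensor_counit_comul, lid_tmul, one_smul, ha.2, map_zero]
      exact h hx
  refine @Ideal.IsHopfIdeal.mk k A _ _ _ J hc fun x hx => ?_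
  have h : J ≤ Ideal.comap (HopfAlgebra.antipodeAlgHom k A) J :=
    Ideal.span_le.2 fun a ha => Ideal.subset_span ⟨hB.2 a ha.1, by
      show counit (R := k) (HopfAlgebra.antipode k a) = 0
      rw [HopfAlgebra.counit_antipode]; exact ha.2⟩
  exact h hx

theorem map_ker_eq_augIdealSpan (hB : SGA3.IsHopfSubalgebra k A B) :
    letI := hopfAlgebra hB
    Ideal.map (valBialg hB : B →+* A) (RingHom.ker (Bialgebra.counitAlgHom k B)) =
      SGA3.augIdealSpan k A B := by
  letI := hopfAlgebra hB
  refine le_antisymm (Ideal.map_le_iff_le_comap.2 fun b hb => Ideal.subset_span ⟨b.2, ?_⟩)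
    (Ideal.span_le.2 ?_)
  · exact hb
  · rintro a ⟨ha, h0⟩
    exact Ideal.mem_map_of_mem (valBialg hB : B →+* A) (x := (⟨a, ha⟩ : B)) h0

end Aug

end Groth.Agent.CommGrpDecomp
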